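/-
Counting orbits of a finite vector group whose stabiliser pattern is invariant under transvections.
-/
import Mathlib

set_option autoImplicit false
set_option linter.unusedSectionVars false
set_option linter.style.haveILetI false

namespace CfsgLib.MinIdxPSL

open Matrix Finset

variable {F : Type*} [Field F] {m : ℕ}

lemma exists_dot {ι : Type*} [Fintype ι] (S : Submodule F (ι → F)) {u : ι → F} (hu : u ∉ S) :
    ∃ a : ι → F, (∀ x ∈ S, x ⬝ᵥ a = 0) ∧ u ⬝ᵥ a = 1 := by
  classical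
  obtain ⟨f, hfu, hfS⟩ := S.exists_dual_map_eq_bot_of_notMem hu inferInstance
  refine ⟨fun i => (f u)⁻¹ * f (Pi.single i 1), ?_, ?_⟩
  all_goals
    have key : ∀ x : ι → F, x ⬝ᵥ (fun i => (f u)⁻¹ * f (Pi.single i 1)) = (f u)⁻¹ * f x := by
      intro x
      conv_rhs => rw [pi_eq_sum_univ' x, map_sum, Finset.mul_sum]
      refine Finset.sum_congr rfl fun i _ => ?_
      simp only [map_smul, smul_eq_mul]
      ring
  · intro x hx
    have : f x ∈ S.map f := Submodule.mem_map_of_mem hx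
    rw [hfS, Submodule.mem_bot] at this
    rw [key, this, mul_zero]
  · rw [key, inv_mul_cancel₀ hfu]

lemma exists_dot_one {ι : Type*} [Fintype ι] {u : ι → F} (hu : u ≠ 0) : ∃ a : ι → F, u ⬝ᵥ a = 1 := by
  obtain ⟨a, -, h⟩ := exists_dot (⊥ : Submodule F (ι → F)) (by simpa using hu)
  exact ⟨a, h⟩

lemma exists_dot_pair {ι : Type*} [Fintype ι] {v u : ι → F} (hu : u ∉ F ∙ v) :
    ∃ a : ι → F, v ⬝ᵥ a = 0 ∧ u ⬝ᵥ a = 1 := by
  obtain ⟨a, h0, h1⟩ := exists_dot _ hu
  exact ⟨a, h0 v (Submodule.mem_span_singleton_self v), h1⟩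

lemma notMem_span_symm {ι : Type*} {v u : ι → F} (hv : v ≠ 0) (hu : u ∉ F ∙ v) : v ∉ F ∙ u := by
  intro h
  obtain ⟨c, rfl⟩ := Submodule.mem_span_singleton.1 h
  have hc : c ≠ 0 := fun e => hv (by rw [e, zero_smul])
  exact hu (Submodule.mem_span_singleton.2 ⟨c⁻¹, by rw [smul_smul, inv_mul_cancel₀ hc, one_smul]⟩)

/-- A function on nonzero vectors invariant under transvections is constant. -/
lemma eq_of_transvection_invariant {ι : Type*} [Fintype ι] [Nontrivial ι] {β : Sort*}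
    (f : (ι → F) → β)
    (h : ∀ a l φ : ι → F, l ⬝ᵥ a = 0 → φ ≠ 0 → f (φ + (φ ⬝ᵥ a) • l) = f φ)
    {u v : ι → F} (hu : u ≠ 0) (hv : v ≠ 0) : f u = f v := by
  classical
  have main : ∀ u v : ι → F, u ≠ 0 → v ∉ F ∙ u → f v = f u := by
    intro u v hu hv
    have hv' : u ∉ F ∙ (v - u) := by
      refine notMem_span_symm ?_ fun h' => hv ?_
      · exact hu
      · simpa using add_mem h' (Submodule.mem_span_singleton_self u)
    obtain ⟨a, h0, h1⟩ := exists_dot_pair hv'
    simpa [h1] using h a (v - u) u h0 hu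
  by_cases hvu : v ∈ F ∙ u
  · obtain ⟨w, hw⟩ : ∃ w : ι → F, w ∉ F ∙ u := by
      by_contra hc
      push Not at hc
      obtain ⟨i, j, hij⟩ := exists_pair_ne ι
      obtain ⟨c, hc1⟩ := Submodule.mem_span_singleton.1 (hc (Pi.single i 1))
      obtain ⟨d, hd1⟩ := Submodule.mem_span_singleton.1 (hc (Pi.single j 1))
      have h1 := congrFun hc1 i
      have h2 := congrFun hc1 j
      have h3 := congrFun hd1 j
      simp only [Pi.smul_apply, smul_eq_mul, Pi.single_eq_same, Pi.single_eq_of_ne hij.symm] at h1 h2 h3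
      have hcne : c ≠ 0 := fun e => by simp [e] at h1
      rw [(mul_eq_zero.1 h2).resolve_left hcne, mul_zero] at h3
      exact zero_ne_one h3
    have hwv : w ∉ F ∙ v := fun hh => hw (Submodule.span_singleton_le_iff_mem _ _ |>.2 hvu hh)
    rw [← main u w hu hw, main v w hv hwv]
  · exact (main u v hu hvu).symm

section Count

variable [Fintype F]

/-- The annihilator with respect to an additive character. -/
def ann (ψ : AddChar F ℂ) (K : AddSubgroup (Fin m → F)) : AddSubgroup (Fin m → F) where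
  carrier := {φ | ∀ k ∈ K, ψ (φ ⬝ᵥ k) = 1}
  zero_mem' k _ := by simp
  add_mem' := fun {a b} ha hb k hk => by
    rw [add_dotProduct, AddChar.map_add_eq_mul, ha k hk, hb k hk, one_mul]
  neg_mem' := fun {a} ha k hk => by
    rw [neg_dotProduct, ← dotProduct_neg]
    exact ha _ (K.neg_mem hk)

lemma mem_ann {ψ : AddChar F ℂ} {K : AddSubgroup (Fin m → F)} {φ : Fin m → F} :
    φ ∈ ann ψ K ↔ ∀ k ∈ K, ψ (φ ⬝ᵥ k) = 1 := Iff.rfl

/-- The character attached to a functional. -/
def dotChar (ψ : AddChar F ℂ) (φ : Fin m → F) : AddChar (Fin m → F) ℂ :=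
  ψ.compAddMonoidHom (AddMonoidHom.mk' (fun w => φ ⬝ᵥ w) (fun a b => dotProduct_add φ a b))

@[simp] lemma dotChar_apply (ψ : AddChar F ℂ) (φ w : Fin m → F) : dotChar ψ φ w = ψ (φ ⬝ᵥ w) := rfl

lemma eq_zero_of_forall {ψ : AddChar F ℂ} (hψ : ψ 1 ≠ 1) {φ : Fin m → F}
    (h : ∀ w, ψ (φ ⬝ᵥ w) = 1) : φ = 0 := by
  by_contra hne
  obtain ⟨a, ha⟩ := exists_dot_one hne
  exact hψ (ha ▸ h a)

lemma dotChar_bijective {ψ : AddChar F ℂ} (hψ : ψ 1 ≠ 1) :
    Function.Bijective (dotChar (m := m) ψ) := by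
  classical
  rw [Fintype.bijective_iff_injective_and_card]
  refine ⟨fun φ φ' h => sub_eq_zero.1 (eq_zero_of_forall hψ fun w => ?_), (AddChar.card_eq).symm⟩
  have hw := DFunLike.congr_fun h w
  rw [dotChar_apply, dotChar_apply] at hw
  rw [sub_dotProduct, AddChar.map_sub_eq_div, hw, div_self]
  intro h0
  have := AddChar.map_add_eq_mul ψ (φ' ⬝ᵥ w) (-(φ' ⬝ᵥ w))
  rw [add_neg_cancel, AddChar.map_zero_eq_one, h0, zero_mul] at this
  exact one_ne_zero this

lemma card_ann {ψ : AddChar F ℂ} (hψ : ψ 1 ≠ 1) (K : AddSubgroup (Fin m → F)) :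
    Nat.card (ann ψ K) = K.index := by
  classical
  let e1 : ann ψ K ≃ {χ : AddChar (Fin m → F) ℂ // ∀ k ∈ K, χ k = 1} :=
    (Equiv.ofBijective _ (dotChar_bijective hψ)).subtypeEquiv (fun φ => Iff.rfl)
  let e2 : {χ : AddChar (Fin m → F) ℂ // ∀ k ∈ K, χ k = 1} ≃ AddChar ((Fin m → F) ⧸ K) ℂ :=
    { toFun := fun χ => AddChar.toAddMonoidHomEquiv.symm
        (QuotientAddGroup.lift K (AddChar.toAddMonoidHomEquiv χ.1)
          (fun k hk => AddMonoidHom.mem_ker.2 (by
            change Additive.ofMul (χ.1 k) = 0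
            rw [χ.2 k hk]; rfl)))
      invFun := fun χ => ⟨χ.compAddMonoidHom (QuotientAddGroup.mk' K), fun k hk => by
        rw [AddChar.compAddMonoidHom_apply, QuotientAddGroup.mk'_apply,
          (QuotientAddGroup.eq_zero_iff k).2 hk, AddChar.map_zero_eq_one]⟩
      left_inv := fun χ => Subtype.ext (DFunLike.ext _ _ fun x => rfl)
      right_inv := fun χ => DFunLike.ext _ _ fun x => QuotientAddGroup.induction_on x fun y => rfl }
  haveI : Fintype ((Fin m → F) ⧸ K) := Fintype.ofFinite _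
  rw [Nat.card_congr (e1.trans e2), Nat.card_eq_fintype_card, AddChar.card_eq,
    AddSubgroup.index, Nat.card_eq_fintype_card]

lemma exists_char : ∃ ψ : AddChar F ℂ, ψ 1 ≠ 1 := AddChar.exists_apply_ne_zero.2 one_ne_zero

variable {Ω : Type*} [Finite Ω] [AddAction (Fin m → F) Ω]

open AddAction

theorem orbit_dichotomy (hm : 2 ≤ m)
    (hπ : ∀ a l : Fin m → F, l ⬝ᵥ a = 0 → ∃ π : Equiv.Perm Ω,
      ∀ (w : Fin m → F) (ω : Ω), π (w +ᵥ ω) = (w + (l ⬝ᵥ w) • a) +ᵥ π ω)
    (hd : Nat.card Ω * (Fintype.card F - 1) < Fintype.card F ^ (m + 1) - 1) :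
    ((∀ ω : Ω, stabilizer (Fin m → F) ω = ⊥ ∨ stabilizer (Fin m → F) ω = ⊤) ∧
      ∀ ω ω' : Ω, stabilizer (Fin m → F) ω = ⊥ → stabilizer (Fin m → F) ω' = ⊥ →
        ∃ w : Fin m → F, w +ᵥ ω = ω') ∨
    (∀ ω : Ω, ∃ φ : Fin m → F, φ ≠ 0 ∧ ∀ w, w ∈ stabilizer (Fin m → F) ω ↔ φ ⬝ᵥ w = 0) := by
  classical
  obtain ⟨ψ, hψ⟩ := exists_char (F := F)
  haveI := Fintype.ofFinite Ω
  haveI : Nontrivial (Fin m) := Fin.nontrivial_iff_two_le.2 hm
  set O := orbitRel.Quotient (Fin m → F) Ω with hO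
  haveI : Fintype O := Fintype.ofFinite _
  set q := Fintype.card F with hqdef
  have hq2 : 2 ≤ q := Fintype.one_lt_card
  have hW : Fintype.card (Fin m → F) = q ^ m := by simp [q]
  -- stabilisers are constant on orbits
  have hstab : ∀ (w : (Fin m → F)) (ω : Ω), stabilizer (Fin m → F) (w +ᵥ ω) = stabilizer (Fin m → F) ω := by
    intro w ω
    ext k
    rw [mem_stabilizer_iff, mem_stabilizer_iff, vadd_comm, vadd_left_cancel_iff]
  set A : O → AddSubgroup (Fin m → F) := fun o => ann ψ (stabilizer (Fin m → F) o.out) with hA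
  have hAω : ∀ ω : Ω, A (Quotient.mk'' ω) = ann ψ (stabilizer (Fin m → F) ω) := by
    intro ω
    have h1 : (orbitRel (Fin m → F) Ω) (Quotient.out (Quotient.mk'' ω : O)) ω := Quotient.mk_out (s := orbitRel (Fin m → F) Ω) ω
    obtain ⟨w, hw⟩ := orbitRel_apply.1 h1
    simp only [hA]
    rw [← hw, hstab]
  have hsum : ∑ o : O, Nat.card (A o) = Nat.card Ω := by
    rw [Nat.card_congr (selfEquivSigmaOrbits (Fin m → F) Ω), Nat.card_sigma]
    refine Finset.sum_congr rfl fun o _ => ?_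
    simp only [hA]
    rw [card_ann hψ, AddSubgroup.index]
    exact (Nat.card_congr (orbitEquivQuotientStabilizer (Fin m → F) o.out)).symm
  set r : (Fin m → F) → ℕ := fun φ => (univ.filter fun o : O => φ ∈ A o).card with hr
  -- transport
  have htrans : ∀ a l : (Fin m → F), l ⬝ᵥ a = 0 → ∃ e : O ≃ O, ∀ o φ, φ ∈ A (e o) ↔ φ + (φ ⬝ᵥ a) • l ∈ A o := by
    intro a l hla
    obtain ⟨π, hπ'⟩ := hπ a l hla
    have hinv : ∀ w : (Fin m → F), (w - (l ⬝ᵥ w) • a) + (l ⬝ᵥ (w - (l ⬝ᵥ w) • a)) • a = w := by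
      intro w; simp [dotProduct_sub, dotProduct_smul, hla]
    have hrel : ∀ x y, orbitRel (Fin m → F) Ω x y ↔ orbitRel (Fin m → F) Ω (π x) (π y) := by
      intro x y
      rw [orbitRel_apply, orbitRel_apply]
      constructor
      · rintro ⟨w, rfl⟩
        exact ⟨_, (hπ' w y).symm⟩
      · rintro ⟨w, hw⟩
        refine ⟨w - (l ⬝ᵥ w) • a, π.injective ?_⟩
        show π ((w - (l ⬝ᵥ w) • a) +ᵥ y) = π x
        rw [hπ', hinv]
        exact hw
    refine ⟨Quotient.congr π hrel, fun o φ => ?_⟩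
    induction o using Quotient.inductionOn' with
    | h ω =>
      change φ ∈ A (Quotient.mk'' (π ω)) ↔ _
      rw [hAω, hAω]
      have key : ∀ w : (Fin m → F), (φ + (φ ⬝ᵥ a) • l) ⬝ᵥ w = φ ⬝ᵥ (w + (l ⬝ᵥ w) • a) := by
        intro w
        simp [add_dotProduct, dotProduct_add, smul_dotProduct, dotProduct_smul, mul_comm]
      simp only [mem_ann, key, mem_stabilizer_iff]
      constructor
      · intro h k hk
        refine h _ ?_
        rw [← hπ', hk]
      · intro h k hk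
        have := h (k - (l ⬝ᵥ k) • a) (π.injective (by rw [hπ', hinv, hk]))
        rwa [hinv] at this
  have hrinv : ∀ a l φ : (Fin m → F), l ⬝ᵥ a = 0 → φ ≠ 0 → r (φ + (φ ⬝ᵥ a) • l) = r φ := by
    intro a l φ hla _
    obtain ⟨e, he⟩ := htrans a l hla
    refine Finset.card_equiv e fun o => ?_
    simp [he]
  -- the double count
  set T : Finset (Fin m → F) := univ.erase 0 with hT
  have hTcard : T.card = q ^ m - 1 := by rw [hT, card_erase_of_mem (mem_univ _), card_univ, hW]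
  have hAcard : ∀ o, Nat.card (A o) = (T.filter fun φ => φ ∈ A o).card + 1 := by
    intro o
    have h1 : T.filter (fun φ => φ ∈ A o) = ((univ : Finset (Fin m → F)).filter fun φ => φ ∈ A o).erase 0 := by
      rw [hT, filter_erase]
    rw [h1, card_erase_add_one (by simp), Nat.card_eq_fintype_card, ← Fintype.card_subtype]
  have hdouble : ∑ o : O, (T.filter fun φ => φ ∈ A o).card = ∑ φ ∈ T, r φ := by
    simp only [hr, card_filter]
    exact Finset.sum_comm
  have htot : Nat.card Ω = (∑ φ ∈ T, r φ) + Fintype.card O := by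
    rw [← hsum, ← hdouble, Finset.sum_congr rfl (fun o _ => hAcard o), sum_add_distrib]
    simp
  obtain ⟨φ0, hφ0⟩ : ∃ φ0 : (Fin m → F), φ0 ≠ 0 := exists_ne 0
  have hconst : ∀ φ : (Fin m → F), φ ≠ 0 → r φ = r φ0 := fun φ hφ => eq_of_transvection_invariant r hrinv hφ hφ0
  have hrsum : ∑ φ ∈ T, r φ = (q ^ m - 1) * r φ0 := by
    rw [Finset.sum_congr rfl (fun φ hφ => hconst φ (ne_of_mem_erase hφ)), sum_const, smul_eq_mul, hTcard]
  rw [hrsum] at htot
  have hrO : r φ0 ≤ Fintype.card O := (card_le_univ _)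
  -- translation from annihilators to stabilisers
  have hidx : ∀ ω : Ω, Nat.card (A (Quotient.mk'' ω)) = (stabilizer (Fin m → F) ω).index := fun ω => by
    rw [hAω, card_ann hψ]
  have hbot : ∀ ω : Ω, A (Quotient.mk'' ω) = ⊤ → stabilizer (Fin m → F) ω = ⊥ := by
    intro ω h
    rw [← AddSubgroup.card_eq_one]
    have h1 := hidx ω
    have h2 : Nat.card (⊤ : AddSubgroup (Fin m → F)) = Nat.card (Fin m → F) := AddSubgroup.card_top
    rw [h, h2] at h1
    have h3 := (stabilizer (Fin m → F) ω).card_mul_index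
    rw [← h1] at h3
    exact (mul_eq_right₀ Nat.card_pos.ne').1 h3
  have htop : ∀ ω : Ω, A (Quotient.mk'' ω) = ⊥ → stabilizer (Fin m → F) ω = ⊤ := by
    intro ω h
    rw [← AddSubgroup.index_eq_one, ← hidx ω, h, AddSubgroup.card_bot]
  have hQpos : 1 ≤ q ^ m := Nat.one_le_pow _ _ (by omega)
  rcases Nat.lt_or_ge (r φ0) 1 with hr0 | hr1
  · -- trivial action
    have hall : ∀ ω : Ω, stabilizer (Fin m → F) ω = ⊤ := by
      intro ω
      refine htop ω ((AddSubgroup.eq_bot_iff_forall _).2 fun φ hφ => by_contra fun hne => ?_)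
      have h0 : r φ = 0 := by rw [hconst φ hne]; omega
      simp only [hr, card_eq_zero, filter_eq_empty_iff] at h0
      exact h0 (mem_univ (Quotient.mk'' ω : O)) hφ
    refine Or.inl ⟨fun ω => Or.inr (hall ω), fun ω ω' h => absurd ((hall ω).symm.trans h) ?_⟩
    exact top_ne_bot
  have hr0 : r φ0 = 1 := by
    by_contra hne
    have h2 : 2 ≤ r φ0 := by omega
    have h3 : 2 * q ^ m ≤ Nat.card Ω := by
      rw [htot]
      have := Nat.mul_le_mul_left (q ^ m - 1) h2
      omega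
    have h4 : q * q ^ m ≤ 2 * q ^ m * (q - 1) := by
      rw [Nat.mul_comm 2, Nat.mul_assoc, Nat.mul_comm q]
      exact Nat.mul_le_mul_left _ (by omega)
    have h5 := Nat.mul_le_mul_right (q - 1) h3
    rw [pow_succ'] at hd
    omega
  have huniq : ∀ φ : (Fin m → F), φ ≠ 0 → ∀ o o' : O, φ ∈ A o → φ ∈ A o' → o = o' := by
    intro φ hφ o o' ho ho'
    have h1 : r φ = 1 := (hconst φ hφ).trans hr0
    simp only [hr] at h1
    exact card_le_one.1 h1.le o (by simp [ho]) o' (by simp [ho'])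
  have hpart : ∀ (o : O) (φ v : (Fin m → F)), φ ≠ 0 → φ ∈ A o → v ∈ A o → v ∉ F ∙ φ → A o = ⊤ := by
    intro o φ v hφ hφo hvo hv
    have half : ∀ φ v : (Fin m → F), φ ≠ 0 → φ ∈ A o → v ∈ A o → v ∉ F ∙ φ →
        ∃ a, φ ⬝ᵥ a = 0 ∧ v ⬝ᵥ a = 1 ∧ ∀ l, l ⬝ᵥ a = 0 → l ∈ A o := by
      intro φ v hφ hφo hvo hv
      obtain ⟨a, h0, h1⟩ := exists_dot_pair hv
      refine ⟨a, h0, h1, fun l hl => ?_⟩
      obtain ⟨e, he⟩ := htrans a l hl
      have heo : e o = o := huniq φ hφ _ _ ((he o φ).2 (by simpa [h0] using hφo)) hφo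
      have h2 : v + (v ⬝ᵥ a) • l ∈ A o := (he o v).1 (by rw [heo]; exact hvo)
      rw [h1, one_smul] at h2
      simpa using (A o).sub_mem h2 hvo
    have hv0 : v ≠ 0 := fun e => hv (e ▸ Submodule.zero_mem _)
    obtain ⟨a, -, hva, hl⟩ := half φ v hφ hφo hvo hv
    obtain ⟨a', hva', -, hl'⟩ := half v φ hv0 hvo hφo (notMem_span_symm hφ hv)
    refine eq_top_iff.2 fun x _ => ?_
    have h1 : x - (x ⬝ᵥ a) • v ∈ A o := hl _ (by simp [sub_dotProduct, smul_dotProduct, hva])
    have h2 : (x ⬝ᵥ a) • v ∈ A o := hl' _ (by simp [smul_dotProduct, hva'])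
    simpa using (A o).add_mem h1 h2
  by_cases hA1 : ∃ o, A o = ⊤
  · obtain ⟨o₁, ho₁⟩ := hA1
    have hother : ∀ o, o ≠ o₁ → A o = ⊥ := fun o ho => (AddSubgroup.eq_bot_iff_forall _).2
      fun φ hφ => by_contra fun hne => ho (huniq φ hne o o₁ hφ (by rw [ho₁]; trivial))
    have hreg : ∀ ω, stabilizer (Fin m → F) ω = ⊥ → (Quotient.mk'' ω : O) = o₁ := by
      intro ω h
      refine huniq φ0 hφ0 _ _ ?_ (by rw [ho₁]; trivial)
      rw [hAω, h, mem_ann]
      intro k hk
      rw [AddSubgroup.mem_bot] at hk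
      simp [hk]
    refine Or.inl ⟨fun ω => ?_, fun ω ω' h h' => ?_⟩
    · by_cases ho : (Quotient.mk'' ω : O) = o₁
      · exact Or.inl (hbot ω (ho ▸ ho₁))
      · exact Or.inr (htop ω (hother _ ho))
    · have := Quotient.eq''.1 ((hreg ω' h').trans (hreg ω h).symm)
      exact orbitRel_apply.1 this
  · push Not at hA1
    set g : O → ℕ := fun o => (T.filter fun φ => φ ∈ A o).card with hg
    have hgsum : ∑ o, g o = q ^ m - 1 := by rw [hg, hdouble, hrsum, hr0, mul_one]
    have hline : ∀ (o : O) (φ : (Fin m → F)), φ ≠ 0 → φ ∈ A o → ∀ v ∈ A o, v ∈ F ∙ φ :=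
      fun o φ hφ hφo v hv => by_contra fun hc => hA1 o (hpart o φ v hφ hφo hv hc)
    have hcardline : ∀ φ : (Fin m → F), φ ≠ 0 → Nat.card (F ∙ φ) = q := fun φ hφ => by
      rw [← Nat.card_congr (LinearEquiv.toSpanNonzeroSingleton F (Fin m → F) φ hφ).toEquiv,
        Nat.card_eq_fintype_card]
    have hgle : ∀ o, g o ≤ q - 1 := by
      intro o
      rcases Nat.eq_zero_or_pos (g o) with h | h
      · omega
      obtain ⟨φ, hφ⟩ := card_pos.1 h
      rw [mem_filter] at hφ
      have hle : (A o) ≤ (F ∙ φ).toAddSubgroup :=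
        fun v hv => hline o φ (ne_of_mem_erase hφ.1) hφ.2 v hv
      have h2 := AddSubgroup.card_le_of_le hle
      have h3 : Nat.card ((F ∙ φ).toAddSubgroup) = q := hcardline φ (ne_of_mem_erase hφ.1)
      rw [h3, hAcard o] at h2
      simp only [hg] at h ⊢
      omega
    obtain ⟨M, hM⟩ : (q - 1) ∣ q ^ m - 1 := by simpa using Nat.sub_dvd_pow_sub_pow q 1 m
    have hOM : Fintype.card O ≤ M := by
      by_contra hlt
      have h1 : (M + 1) * (q - 1) ≤ Fintype.card O * (q - 1) := Nat.mul_le_mul_right _ (by omega)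
      rw [htot, hr0, mul_one, add_mul, pow_succ'] at hd
      rw [add_mul, one_mul, mul_comm M, ← hM] at h1
      have h6 : q * q ^ m = q ^ m * (q - 1) + q ^ m := by
        rw [← Nat.mul_succ, mul_comm]; congr 1; omega
      have h7 : (q ^ m - 1) * (q - 1) + (q - 1) = q ^ m * (q - 1) := by
        rw [← Nat.succ_mul]; congr 1; omega
      omega
    have hgeq : ∀ o, g o = q - 1 := by
      have h1 : ∑ o, g o = ∑ _o : O, (q - 1) := by
        refine le_antisymm (sum_le_sum fun o _ => hgle o) ?_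
        rw [hgsum, sum_const, card_univ, smul_eq_mul, hM, mul_comm (q - 1)]
        exact Nat.mul_le_mul_right _ hOM
      exact fun o => (sum_eq_sum_iff_of_le fun o _ => hgle o).1 h1 o (mem_univ _)
    refine Or.inr fun ω => ?_
    obtain ⟨φ, hφ⟩ : (T.filter fun φ => φ ∈ A (Quotient.mk'' ω)).Nonempty :=
      card_pos.1 (by have := hgeq (Quotient.mk'' ω); simp only [hg] at this; omega)
    rw [mem_filter] at hφ
    have hne : φ ≠ 0 := ne_of_mem_erase hφ.1
    refine ⟨φ, hne, ?_⟩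
    have hcard : Nat.card (A (Quotient.mk'' ω)) = q := by
      rw [hAcard]; have := hgeq (Quotient.mk'' ω); simp only [hg] at this; omega
    have hAeq : A (Quotient.mk'' ω) = (F ∙ φ).toAddSubgroup :=
      AddSubgroup.eq_of_le_of_card_ge (fun v hv => hline _ φ hne hφ.2 v hv)
        (by rw [hcard]; exact (hcardline φ hne).le)
    set f : (Fin m → F) →+ F := AddMonoidHom.mk' (fun w => φ ⬝ᵥ w) (fun a b => dotProduct_add φ a b) with hf
    have hle : stabilizer (Fin m → F) ω ≤ f.ker := by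
      intro k hk
      rw [AddMonoidHom.mem_ker]
      change φ ⬝ᵥ k = 0
      by_contra hne'
      have hc : (φ ⬝ᵥ k)⁻¹ • φ ∈ A (Quotient.mk'' ω) := by
        rw [hAeq]; exact Submodule.smul_mem _ _ (Submodule.mem_span_singleton_self φ)
      rw [hAω, mem_ann] at hc
      have := hc k hk
      rw [smul_dotProduct, smul_eq_mul, inv_mul_cancel₀ hne'] at this
      exact hψ this
    have hfs : Function.Surjective f := fun c => by
      obtain ⟨a, ha⟩ := exists_dot_one hne
      exact ⟨c • a, by simp [hf, dotProduct_smul, ha]⟩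
    have hfidx : f.ker.index = q := by
      rw [AddSubgroup.index_ker, AddMonoidHom.range_eq_top.2 hfs, AddSubgroup.card_top,
        Nat.card_eq_fintype_card]
    have heq : f.ker ≤ stabilizer (Fin m → F) ω := by
      rw [← AddSubgroup.relIndex_eq_one]
      have h1 := AddSubgroup.relIndex_mul_index hle
      rw [hfidx, ← hidx ω, hcard] at h1
      exact (mul_eq_right₀ (by omega)).1 h1
    exact fun w => ⟨fun hw => hle hw, fun hw => heq hw⟩

end Count

end CfsgLib.MinIdxPSL
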