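/-
Transvections in the special linear group and the transvections contained in a subgroup.
-/
import Cfsg.Agent.MinIdxPSL.Count
import Cfsg.Agent.Classical.Transvections

set_option autoImplicit false
set_option linter.unusedSectionVars false

namespace CfsgLib.MinIdxPSL

open Matrix

variable {ι F : Type*} [Fintype ι] [DecidableEq ι] [Field F]


/-- The transvection as an element of the special linear group. -/
def tvMk (a φ : ι → F) (h : φ ⬝ᵥ a = 0) : (Matrix.SpecialLinearGroup ι F) :=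
  ⟨1 + vecMulVec a φ, by
    rw [vecMulVec_eq Unit, det_one_add_replicateCol_mul_replicateRow, h, add_zero]⟩

open Classical in
/-- The transvection with centre `a` and axis `φ` (one if `φ` does not kill `a`). -/
noncomputable def tv (a φ : ι → F) : (Matrix.SpecialLinearGroup ι F) :=
  if h : φ ⬝ᵥ a = 0 then tvMk a φ h else 1

lemma tv_eq {a φ : ι → F} (h : φ ⬝ᵥ a = 0) : tv a φ = tvMk a φ h := by
  simp only [tv]; exact dif_pos h

lemma tv_smul {a φ : ι → F} (h : φ ⬝ᵥ a = 0) (x : ι → F) : tv a φ • x = x + (φ ⬝ᵥ x) • a := by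
  rw [tv_eq h, Matrix.SpecialLinearGroup.smul_def]
  change (1 + vecMulVec a φ) *ᵥ x = _
  rw [add_mulVec, one_mulVec, vecMulVec_mulVec]
  ext i; simp [mul_comm]

lemma tv_val {a φ : ι → F} (h : φ ⬝ᵥ a = 0) : (tv a φ : Matrix ι ι F) = 1 + vecMulVec a φ := by
  rw [tv_eq h]; rfl

lemma sl_ext {g h : (Matrix.SpecialLinearGroup ι F)} (H : ∀ x : ι → F, g • x = h • x) : g = h :=
  Subtype.ext (Matrix.ext_iff_mulVec.2 fun x => H x)

lemma tv_zero_left (φ : ι → F) : tv (0 : ι → F) φ = (1 : (Matrix.SpecialLinearGroup ι F)) :=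
  sl_ext fun x => by rw [tv_smul (dotProduct_zero φ), smul_zero, add_zero, one_smul]

lemma tv_zero_right (a : ι → F) : tv a (0 : ι → F) = (1 : (Matrix.SpecialLinearGroup ι F)) :=
  sl_ext fun x => by rw [tv_smul (zero_dotProduct a), zero_dotProduct, zero_smul, add_zero, one_smul]

lemma tv_mul_left {a b φ : ι → F} (ha : φ ⬝ᵥ a = 0) (hb : φ ⬝ᵥ b = 0) :
    tv a φ * tv b φ = tv (a + b) φ :=
  sl_ext fun x => by
    rw [mul_smul, tv_smul hb, tv_smul ha, tv_smul (by rw [dotProduct_add, ha, hb, add_zero])]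
    simp only [dotProduct_add, dotProduct_smul, hb, smul_eq_mul, mul_zero, add_zero, smul_add]
    abel

lemma tv_mul_right {a φ ψ : ι → F} (ha : φ ⬝ᵥ a = 0) (hb : ψ ⬝ᵥ a = 0) :
    tv a φ * tv a ψ = tv a (φ + ψ) :=
  sl_ext fun x => by
    rw [mul_smul, tv_smul hb, tv_smul ha, tv_smul (by rw [add_dotProduct, ha, hb, add_zero])]
    simp only [dotProduct_add, dotProduct_smul, ha, smul_eq_mul, mul_zero, add_zero, add_dotProduct, add_smul]
    abel

lemma tv_smul_swap (c : F) {a φ : ι → F} (h : φ ⬝ᵥ a = 0) : tv (c • a) φ = tv a (c • φ) :=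
  sl_ext fun x => by
    rw [tv_smul (by simp [dotProduct_smul, h]), tv_smul (by simp [smul_dotProduct, h]),
      smul_dotProduct, smul_smul, smul_eq_mul, mul_comm]

lemma tv_neg {a φ : ι → F} (h : φ ⬝ᵥ a = 0) : (tv a φ)⁻¹ = tv (-a) φ :=
  inv_eq_of_mul_eq_one_right (by
    rw [tv_mul_left h (by simp [h]), add_neg_cancel, tv_zero_left])

lemma tv_eq_one_iff {a φ : ι → F} (h : φ ⬝ᵥ a = 0) : tv a φ = (1 : (Matrix.SpecialLinearGroup ι F)) ↔ a = 0 ∨ φ = 0 := by
  constructor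
  · intro e
    rcases eq_or_ne φ 0 with h0 | h0
    · exact Or.inr h0
    · obtain ⟨x, hx⟩ := exists_dot_one h0
      have := congrArg (fun g : (Matrix.SpecialLinearGroup ι F) => g • x) e
      simp only [tv_smul h, one_smul, hx, add_eq_left] at this
      exact Or.inl this
  · rintro (rfl | rfl)
    · exact tv_zero_left φ
    · exact tv_zero_right a

lemma dot_smul_smul (g : (Matrix.SpecialLinearGroup ι F)) (φ x : ι → F) : φ ⬝ᵥ (g • x) = (φ ᵥ* (g : Matrix ι ι F)) ⬝ᵥ x :=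
  dotProduct_mulVec φ _ x

/-- Conjugation of a transvection. -/
lemma tv_conj (g : (Matrix.SpecialLinearGroup ι F)) {a φ : ι → F} (h : φ ⬝ᵥ a = 0) :
    g⁻¹ * tv a φ * g = tv (g⁻¹ • a) (φ ᵥ* (g : Matrix ι ι F)) := by
  have h' : (φ ᵥ* (g : Matrix ι ι F)) ⬝ᵥ (g⁻¹ • a) = 0 := by
    rw [← dot_smul_smul, smul_inv_smul, h]
  refine sl_ext fun x => ?_
  rw [mul_smul, mul_smul, tv_smul h, tv_smul h', smul_add, inv_smul_smul,
    smul_comm, dot_smul_smul]

lemma tv_vecMul {a l : ι → F} (h : l ⬝ᵥ a = 0) (φ : ι → F) :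
    φ ᵥ* (tv a l : Matrix ι ι F) = φ + (φ ⬝ᵥ a) • l := by
  rw [tv_val h, vecMul_add, vecMul_one, vecMul_vecMulVec]

/-- All nonzero functionals are equivalent under the special linear group. -/
lemma exists_vecMul_eq [Nontrivial ι] {φ ψ : ι → F} (hφ : φ ≠ 0) (hψ : ψ ≠ 0) :
    ∃ g : (Matrix.SpecialLinearGroup ι F), φ ᵥ* (g : Matrix ι ι F) = ψ := by
  refine (eq_of_transvection_invariant (fun χ : ι → F => ∃ g : (Matrix.SpecialLinearGroup ι F), φ ᵥ* (g : Matrix ι ι F) = χ)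
    ?_ hφ hψ).mp ⟨1, by simp⟩
  intro a l χ hla _
  refine propext ⟨fun ⟨g, hg⟩ => ⟨g * (tv a l)⁻¹, ?_⟩, fun ⟨g, hg⟩ => ⟨g * tv a l, ?_⟩⟩
  · rw [Matrix.SpecialLinearGroup.coe_mul, ← vecMul_vecMul, hg, ← tv_vecMul hla, vecMul_vecMul,
      ← Matrix.SpecialLinearGroup.coe_mul, mul_inv_cancel, Matrix.SpecialLinearGroup.coe_one, vecMul_one]
  · rw [Matrix.SpecialLinearGroup.coe_mul, ← vecMul_vecMul, hg, tv_vecMul hla]

lemma closure_tv [Nontrivial ι] {H : Subgroup (Matrix.SpecialLinearGroup ι F)}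
    (h : ∀ a φ : ι → F, φ ⬝ᵥ a = 0 → tv a φ ∈ H) : H = ⊤ := by
  refine eq_top_iff.2 fun A _ => ?_
  induction A using CfsgLib.Linear.transvection_induction with
  | htransvec i j hij c =>
    have h0 : Pi.single j (1 : F) ⬝ᵥ (Pi.single i c : ι → F) = 0 := by simp [hij.symm]
    have e : Matrix.SpecialLinearGroup.transvection hij c = tv (Pi.single i c) (Pi.single j 1) := by
      refine Subtype.ext ?_
      rw [CfsgLib.Linear.transvec_coe, tv_val h0, Matrix.transvection]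
      congr 1
      ext k l
      simp [vecMulVec_apply, Matrix.single_apply, Pi.single_apply]
      grind
    rw [e]
    exact h _ _ h0
  | hmul A B hA hB => exact H.mul_mem (hA trivial) (hB trivial)

/-- `H` contains the transvection with centre `a` and axis `φ`. -/
def Has (H : Subgroup (Matrix.SpecialLinearGroup ι F)) (a φ : ι → F) : Prop := φ ⬝ᵥ a = 0 ∧ tv a φ ∈ H

variable {H : Subgroup (Matrix.SpecialLinearGroup ι F)}

lemma has_zero_left (H : Subgroup (Matrix.SpecialLinearGroup ι F)) (φ : ι → F) : Has H 0 φ :=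
  ⟨dotProduct_zero φ, by rw [tv_zero_left]; exact H.one_mem⟩

lemma has_zero_right (H : Subgroup (Matrix.SpecialLinearGroup ι F)) (a : ι → F) : Has H a 0 :=
  ⟨zero_dotProduct a, by rw [tv_zero_right]; exact H.one_mem⟩

lemma Has.add_left {a b φ : ι → F} (h : Has H a φ) (h' : Has H b φ) : Has H (a + b) φ :=
  ⟨by rw [dotProduct_add, h.1, h'.1, add_zero], by rw [← tv_mul_left h.1 h'.1]; exact H.mul_mem h.2 h'.2⟩

lemma has_swap {c : F} {a φ : ι → F} : Has H (c • a) φ ↔ Has H a (c • φ) := by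
  have e : φ ⬝ᵥ (c • a) = (c • φ) ⬝ᵥ a := by rw [dotProduct_smul, smul_dotProduct]
  rcases eq_or_ne c 0 with rfl | hc
  · simp [has_zero_left, has_zero_right]
  constructor
  · rintro ⟨h1, h2⟩
    have h : φ ⬝ᵥ a = 0 := by simpa [dotProduct_smul, hc] using h1
    exact ⟨e ▸ h1, tv_smul_swap c h ▸ h2⟩
  · rintro ⟨h1, h2⟩
    have h : φ ⬝ᵥ a = 0 := by simpa [smul_dotProduct, hc] using h1
    exact ⟨e.symm ▸ h1, (tv_smul_swap c h).symm ▸ h2⟩

lemma Has.conj {a φ : ι → F} (h : Has H a φ) {g : (Matrix.SpecialLinearGroup ι F)} (hg : g ∈ H) :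
    Has H (g⁻¹ • a) (φ ᵥ* (g : Matrix ι ι F)) :=
  ⟨by rw [← dot_smul_smul, smul_inv_smul, h.1],
    by rw [← tv_conj g h.1]; exact H.mul_mem (H.mul_mem (H.inv_mem hg) h.2) hg⟩

/-- Conjugating by a transvection of the subgroup. -/
lemma Has.conj_tv {a φ b ψ : ι → F} (h : Has H a φ) (h' : Has H b ψ) :
    Has H (b - (φ ⬝ᵥ b) • a) (ψ + (ψ ⬝ᵥ a) • φ) := by
  have := h'.conj h.2
  rw [tv_vecMul h.1] at this
  have e : (tv a φ)⁻¹ • b = b - (φ ⬝ᵥ b) • a := by
    rw [tv_neg h.1, tv_smul (by simp [h.1]), smul_neg, sub_eq_add_neg]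
  rwa [e] at this

lemma Has.neg {a φ : ι → F} (h : Has H a φ) : Has H (-a) φ :=
  ⟨by simp [h.1], by rw [← tv_neg h.1]; exact H.inv_mem h.2⟩

lemma Has.neg_right {a φ : ι → F} (h : Has H a φ) : Has H a (-φ) := by
  have := h.neg
  rwa [← neg_one_smul F a, has_swap, neg_one_smul] at this

lemma Has.add_right {a φ ψ : ι → F} (h : Has H a φ) (h' : Has H a ψ) : Has H a (φ + ψ) :=
  ⟨by rw [add_dotProduct, h.1, h'.1, add_zero], by rw [← tv_mul_right h.1 h'.1]; exact H.mul_mem h.2 h'.2⟩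

/-- Commutator of two transvections with one incidence. -/
lemma Has.comm {a φ b ψ : ι → F} (h : Has H a φ) (h' : Has H b ψ) (hψ : ψ ⬝ᵥ a = 0) :
    Has H a ((φ ⬝ᵥ b) • ψ) := by
  rw [← has_swap]
  have h1 : Has H (b - (φ ⬝ᵥ b) • a) ψ := by simpa [hψ] using h.conj_tv h'
  simpa using h'.add_left h1.neg

end CfsgLib.MinIdxPSL
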