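/-
The orbit dichotomy transferred to transvection subgroups of SL.
-/
import Cfsg.Agent.MinIdxPSL.Tv

set_option autoImplicit false
set_option linter.unusedSectionVars false
set_option linter.style.haveILetI false

namespace CfsgLib.MinIdxPSL

open Matrix

variable {F : Type*} [Field F] {m : ℕ}


/-- The first coordinate functional. -/
def e0 : Fin (m + 1) → F := Pi.single 0 1

lemma e0_ne : (e0 : (Fin (m + 1) → F)) ≠ 0 := fun h => by simpa [e0] using congrFun h 0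

@[simp] lemma e0_dot (x : (Fin (m + 1) → F)) : e0 ⬝ᵥ x = x 0 := by simp [e0]

/-- A transvection normalising the group of elations with axis `e0`. -/
noncomputable def dgl (a l : Fin m → F) : (Matrix.SpecialLinearGroup (Fin (m + 1)) F) := tv (Fin.cons 0 a) (Fin.cons 0 l)

/-- The elation with axis `e0` and centre `w`. -/
noncomputable def ee (w : Fin m → F) : (Matrix.SpecialLinearGroup (Fin (m + 1)) F) := tv (Fin.cons 0 w) e0

lemma cons_dot_cons (l a : Fin m → F) (x y : F) :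
    (Fin.cons x l : (Fin (m + 1) → F)) ⬝ᵥ Fin.cons y a = x * y + l ⬝ᵥ a := by
  simp [dotProduct, Fin.sum_univ_succ]

lemma e0_dot_cons (w : Fin m → F) : e0 ⬝ᵥ (Fin.cons 0 w : (Fin (m + 1) → F)) = 0 := by simp

lemma cons_add (a b : Fin m → F) : (Fin.cons 0 (a + b) : (Fin (m + 1) → F)) = Fin.cons 0 a + Fin.cons 0 b := by
  funext i; cases i using Fin.cases <;> simp

lemma cons_smul (c : F) (a : Fin m → F) : (Fin.cons 0 (c • a) : (Fin (m + 1) → F)) = c • Fin.cons 0 a := by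
  funext i; cases i using Fin.cases <;> simp

lemma cons_zero' : (Fin.cons 0 (0 : Fin m → F) : (Fin (m + 1) → F)) = 0 := by
  funext i; cases i using Fin.cases <;> simp

lemma ee_add (a b : Fin m → F) : ee (a + b) = ee a * (ee b : (Matrix.SpecialLinearGroup (Fin (m + 1)) F)) := by
  rw [ee, ee, ee, tv_mul_left (e0_dot_cons a) (e0_dot_cons b), cons_add]

lemma ee_zero : (ee (0 : Fin m → F) : (Matrix.SpecialLinearGroup (Fin (m + 1)) F)) = 1 := by rw [ee, cons_zero', tv_zero_left]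

lemma ee_neg (a : Fin m → F) : (ee (-a) : (Matrix.SpecialLinearGroup (Fin (m + 1)) F)) = (ee a)⁻¹ :=
  eq_inv_of_mul_eq_one_left (by rw [← ee_add, neg_add_cancel, ee_zero])

lemma dgl_mul_ee {a l : Fin m → F} (h : l ⬝ᵥ a = 0) (w : Fin m → F) :
    dgl a l * ee w = ee (w + (l ⬝ᵥ w) • a) * (dgl a l : (Matrix.SpecialLinearGroup (Fin (m + 1)) F)) := by
  have hd : (Fin.cons 0 l : (Fin (m + 1) → F)) ⬝ᵥ Fin.cons 0 a = 0 := by rw [cons_dot_cons, h, zero_mul, zero_add]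
  refine sl_ext fun x => ?_
  rw [dgl, ee, ee, mul_smul, mul_smul, tv_smul (e0_dot_cons w), tv_smul hd, tv_smul hd,
    tv_smul (e0_dot_cons _)]
  simp only [dotProduct_add, dotProduct_smul, cons_dot_cons, cons_add, cons_smul, e0_dot,
    Pi.add_apply, Pi.smul_apply, Fin.cons_zero, mul_zero, zero_add, smul_eq_mul, add_zero]
  module

lemma vecMul_inj {g : (Matrix.SpecialLinearGroup (Fin (m + 1)) F)} {φ ψ : (Fin (m + 1) → F)} (h : φ ᵥ* (g : Matrix (Fin (m + 1)) (Fin (m + 1)) F) = ψ ᵥ* (g : Matrix (Fin (m + 1)) (Fin (m + 1)) F)) : φ = ψ := by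
  have e : (g : Matrix (Fin (m + 1)) (Fin (m + 1)) F) * ((g⁻¹ : Matrix.SpecialLinearGroup (Fin (m + 1)) F) : Matrix (Fin (m + 1)) (Fin (m + 1)) F) = 1 := by
    rw [← Matrix.SpecialLinearGroup.coe_mul, mul_inv_cancel, Matrix.SpecialLinearGroup.coe_one]
  rw [← vecMul_one φ, ← vecMul_one ψ, ← e, ← vecMul_vecMul, h, vecMul_vecMul]

variable [Fintype F]

theorem dichotomy (H : Subgroup (Matrix.SpecialLinearGroup (Fin (m + 1)) F)) (hm : 2 ≤ m)
    (hd : H.index * (Fintype.card F - 1) < Fintype.card F ^ (m + 1) - 1) :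
    ((∀ φ : (Fin (m + 1) → F), φ ≠ 0 → (∀ a, φ ⬝ᵥ a = 0 → Has H a φ) ∨ ∀ a, Has H a φ → a = 0) ∧
      ∀ (φ : (Fin (m + 1) → F)) (g : (Matrix.SpecialLinearGroup (Fin (m + 1)) F)) (c : F), φ ≠ 0 → c ≠ 0 → φ ᵥ* (g : Matrix (Fin (m + 1)) (Fin (m + 1)) F) = c • φ →
        (∀ a, Has H a φ → a = 0) → ∃ a, φ ⬝ᵥ a = 0 ∧ tv a φ * g ∈ H) ∨
    (∀ φ : (Fin (m + 1) → F), φ ≠ 0 → ∃ ψ, ψ ∉ F ∙ φ ∧ ∀ a, Has H a φ ↔ φ ⬝ᵥ a = 0 ∧ ψ ⬝ᵥ a = 0) := by
  classical
  letI act : AddAction (Fin m → F) ((Matrix.SpecialLinearGroup (Fin (m + 1)) F) ⧸ H) :=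
    { vadd := fun w ω => (ee w : (Matrix.SpecialLinearGroup (Fin (m + 1)) F)) • ω
      zero_vadd := fun ω => by
        change (ee (0 : Fin m → F) : (Matrix.SpecialLinearGroup (Fin (m + 1)) F)) • ω = ω
        rw [ee_zero, one_smul]
      add_vadd := fun a b ω => by
        change (ee (a + b) : (Matrix.SpecialLinearGroup (Fin (m + 1)) F)) • ω = (ee a : (Matrix.SpecialLinearGroup (Fin (m + 1)) F)) • (ee b : (Matrix.SpecialLinearGroup (Fin (m + 1)) F)) • ω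
        rw [ee_add, mul_smul] }
  haveI : Nontrivial (Fin (m + 1)) := Fin.nontrivial_iff_two_le.2 (by omega)
  have hπ : ∀ a l : Fin m → F, l ⬝ᵥ a = 0 → ∃ π : Equiv.Perm ((Matrix.SpecialLinearGroup (Fin (m + 1)) F) ⧸ H),
      ∀ (w : Fin m → F) (ω : (Matrix.SpecialLinearGroup (Fin (m + 1)) F) ⧸ H), π (w +ᵥ ω) = (w + (l ⬝ᵥ w) • a) +ᵥ π ω := by
    intro a l hla
    refine ⟨MulAction.toPerm (dgl a l : (Matrix.SpecialLinearGroup (Fin (m + 1)) F)), fun w ω => ?_⟩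
    change (dgl a l : (Matrix.SpecialLinearGroup (Fin (m + 1)) F)) • (ee w : (Matrix.SpecialLinearGroup (Fin (m + 1)) F)) • ω = (ee _ : (Matrix.SpecialLinearGroup (Fin (m + 1)) F)) • (dgl a l : (Matrix.SpecialLinearGroup (Fin (m + 1)) F)) • ω
    rw [← mul_smul, dgl_mul_ee hla, mul_smul]
  -- stabilisers
  have hst : ∀ (g : (Matrix.SpecialLinearGroup (Fin (m + 1)) F)) (φ : (Fin (m + 1) → F)), e0 ᵥ* (g : Matrix (Fin (m + 1)) (Fin (m + 1)) F) = φ → ∀ w : Fin m → F,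
      w ∈ AddAction.stabilizer (Fin m → F) (g : (Matrix.SpecialLinearGroup (Fin (m + 1)) F) ⧸ H) ↔ Has H (g⁻¹ • (Fin.cons 0 w : (Fin (m + 1) → F))) φ := by
    intro g φ hg w
    rw [AddAction.mem_stabilizer_iff]
    change ((ee w * g : (Matrix.SpecialLinearGroup (Fin (m + 1)) F)) : (Matrix.SpecialLinearGroup (Fin (m + 1)) F) ⧸ H) = (g : (Matrix.SpecialLinearGroup (Fin (m + 1)) F) ⧸ H) ↔ _
    rw [eq_comm, QuotientGroup.eq, ← mul_assoc, ee, tv_conj g (e0_dot_cons w), hg]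
    exact ⟨fun h => ⟨by rw [← hg, ← dot_smul_smul, smul_inv_smul, e0_dot_cons], h⟩, fun h => h.2⟩
  have hparam : ∀ (g : (Matrix.SpecialLinearGroup (Fin (m + 1)) F)) (φ : (Fin (m + 1) → F)), e0 ᵥ* (g : Matrix (Fin (m + 1)) (Fin (m + 1)) F) = φ → ∀ a, φ ⬝ᵥ a = 0 →
      ∃ w : Fin m → F, a = g⁻¹ • (Fin.cons 0 w : (Fin (m + 1) → F)) := by
    intro g φ hg a ha
    refine ⟨Fin.tail (g • a), ?_⟩
    have h0 : (g • a) 0 = 0 := by rw [← e0_dot (g • a), dot_smul_smul, hg, ha]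
    rw [eq_inv_smul_iff]
    conv_lhs => rw [← Fin.cons_self_tail (g • a), h0]
  have hbot : ∀ (g : (Matrix.SpecialLinearGroup (Fin (m + 1)) F)) (φ : (Fin (m + 1) → F)), e0 ᵥ* (g : Matrix (Fin (m + 1)) (Fin (m + 1)) F) = φ → (∀ a, Has H a φ → a = 0) →
      AddAction.stabilizer (Fin m → F) (g : (Matrix.SpecialLinearGroup (Fin (m + 1)) F) ⧸ H) = ⊥ := by
    intro g φ hg hN
    refine (AddSubgroup.eq_bot_iff_forall _).2 fun w hw => ?_
    have h0 : g⁻¹ • (Fin.cons 0 w : (Fin (m + 1) → F)) = 0 := hN _ ((hst g φ hg w).1 hw)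
    rw [inv_smul_eq_iff, smul_zero] at h0
    funext i
    simpa using congrFun h0 i.succ
  rcases orbit_dichotomy (Ω := (Matrix.SpecialLinearGroup (Fin (m + 1)) F) ⧸ H) hm hπ hd with ⟨hI, hU⟩ | hII
  · refine Or.inl ⟨fun φ hφ => ?_, fun φ g c hφ hc hg hN => ?_⟩
    · obtain ⟨g, hg⟩ := exists_vecMul_eq (e0_ne (F := F) (m := m)) hφ
      rcases hI (g : (Matrix.SpecialLinearGroup (Fin (m + 1)) F) ⧸ H) with h | h
      · refine Or.inr fun a ha => ?_
        obtain ⟨w, rfl⟩ := hparam g φ hg a ha.1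
        have h1 := (hst g φ hg w).2 ha
        rw [h, AddSubgroup.mem_bot] at h1
        rw [h1, cons_zero', smul_zero]
      · refine Or.inl fun a ha => ?_
        obtain ⟨w, rfl⟩ := hparam g φ hg a ha
        exact (hst g φ hg w).1 (by rw [h]; trivial)
    · obtain ⟨g0, hg0⟩ := exists_vecMul_eq (e0_ne (F := F) (m := m)) hφ
      have hg' : e0 ᵥ* ((g0 * g : (Matrix.SpecialLinearGroup (Fin (m + 1)) F)) : Matrix (Fin (m + 1)) (Fin (m + 1)) F) = c • φ := by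
        rw [Matrix.SpecialLinearGroup.coe_mul, ← vecMul_vecMul, hg0, hg]
      have hN' : ∀ a, Has H a (c • φ) → a = 0 := fun a ha =>
        (smul_eq_zero.1 (hN _ (has_swap.2 ha))).resolve_left hc
      obtain ⟨w, hw⟩ := hU _ _ (hbot _ _ hg' hN') (hbot _ _ hg0 hN)
      change ((ee w * (g0 * g) : (Matrix.SpecialLinearGroup (Fin (m + 1)) F)) : (Matrix.SpecialLinearGroup (Fin (m + 1)) F) ⧸ H) = (g0 : (Matrix.SpecialLinearGroup (Fin (m + 1)) F) ⧸ H) at hw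
      rw [eq_comm, QuotientGroup.eq] at hw
      refine ⟨g0⁻¹ • (Fin.cons 0 w : (Fin (m + 1) → F)), by rw [← hg0, ← dot_smul_smul, smul_inv_smul, e0_dot_cons], ?_⟩
      rw [← hg0, ← tv_conj g0 (e0_dot_cons w)]
      simpa [ee, mul_assoc] using hw
  · refine Or.inr fun φ hφ => ?_
    obtain ⟨g, hg⟩ := exists_vecMul_eq (e0_ne (F := F) (m := m)) hφ
    obtain ⟨χ, hχ, hmem⟩ := hII (g : (Matrix.SpecialLinearGroup (Fin (m + 1)) F) ⧸ H)
    set ψ := (Fin.cons 0 χ : (Fin (m + 1) → F)) ᵥ* (g : Matrix (Fin (m + 1)) (Fin (m + 1)) F) with hψ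
    have hψw : ∀ w : Fin m → F, ψ ⬝ᵥ (g⁻¹ • (Fin.cons 0 w : (Fin (m + 1) → F))) = χ ⬝ᵥ w := fun w => by
      rw [hψ, ← dot_smul_smul, smul_inv_smul, cons_dot_cons, zero_mul, zero_add]
    have hφw : ∀ w : Fin m → F, φ ⬝ᵥ (g⁻¹ • (Fin.cons 0 w : (Fin (m + 1) → F))) = 0 := fun w => by
      rw [← hg, ← dot_smul_smul, smul_inv_smul, e0_dot_cons]
    refine ⟨ψ, ?_, fun a => ⟨fun ha => ⟨ha.1, ?_⟩, fun ha => ?_⟩⟩
    · intro h
      obtain ⟨c, hc⟩ := Submodule.mem_span_singleton.1 h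
      obtain ⟨w, hw⟩ := exists_dot_one hχ
      have := hψw w
      rw [← hc, smul_dotProduct, hφw, smul_zero, hw] at this
      exact zero_ne_one this
    · obtain ⟨w, rfl⟩ := hparam g φ hg a ha.1
      rw [hψw, ← hmem]
      exact (hst g φ hg w).2 ha
    · obtain ⟨w, rfl⟩ := hparam g φ hg a ha.1
      refine (hst g φ hg w).1 ((hmem w).2 ?_)
      rw [← hψw]; exact ha.2

/-- The pattern with hyperplanes of centres is impossible. -/
lemma false_of_hyperplane_pattern {H : Subgroup (Matrix.SpecialLinearGroup (Fin (m + 1)) F)} (hm : 2 ≤ m)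
    (hII : ∀ φ : (Fin (m + 1) → F), φ ≠ 0 → ∃ ψ, ψ ∉ F ∙ φ ∧ ∀ a, Has H a φ ↔ φ ⬝ᵥ a = 0 ∧ ψ ⬝ᵥ a = 0) : False := by
  classical
  have hsm : ∀ (c : F) (a φ : (Fin (m + 1) → F)), φ ≠ 0 → Has H a φ → Has H (c • a) φ := by
    intro c a φ hφ ha
    obtain ⟨ψ, -, hψ⟩ := hII φ hφ
    rw [hψ] at ha ⊢
    simp [dotProduct_smul, ha.1, ha.2]
  have claim : ∀ a φ ψ : (Fin (m + 1) → F), φ ≠ 0 → ψ ≠ 0 → Has H a φ → ψ ⬝ᵥ a = 0 → Has H a ψ := by
    intro a φ ψ hφ hψ ha hψa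
    by_cases hdep : ψ ∈ F ∙ φ
    · obtain ⟨c, rfl⟩ := Submodule.mem_span_singleton.1 hdep
      exact has_swap.1 (hsm c a φ hφ ha)
    by_cases hb : ∃ b, Has H b ψ ∧ φ ⬝ᵥ b ≠ 0
    · obtain ⟨b, hb, hne⟩ := hb
      have h1 := hsm (φ ⬝ᵥ b)⁻¹ _ ψ hψ (has_swap.2 (ha.comm hb hψa))
      rwa [smul_smul, inv_mul_cancel₀ hne, one_smul] at h1
    push Not at hb
    obtain ⟨ψ', hψ', hW⟩ := hII ψ hψ
    obtain ⟨x, hx0, hx1⟩ := exists_dot_pair hψ'
    obtain ⟨z, hz0, hz1⟩ := exists_dot_pair (notMem_span_symm hφ hdep)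
    have hker : ∀ u, ψ ⬝ᵥ u = 0 → φ ⬝ᵥ u = (φ ⬝ᵥ x) * (ψ' ⬝ᵥ u) := by
      intro u hu
      have h1 : φ ⬝ᵥ (u - (ψ' ⬝ᵥ u) • x) = 0 := hb _ ((hW _).2
        ⟨by simp [dotProduct_sub, dotProduct_smul, hu, hx0], by simp [dotProduct_sub, dotProduct_smul, hx1]⟩)
      rw [dotProduct_sub, dotProduct_smul, smul_eq_mul, sub_eq_zero] at h1
      rw [h1, mul_comm]
    rw [hW]
    refine ⟨hψa, ?_⟩
    have h1 := hker a hψa
    rw [ha.1] at h1
    refine (mul_eq_zero.1 h1.symm).resolve_left fun h0 => ?_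
    have h2 := hker z hz0
    rw [h0, zero_mul, hz1] at h2
    exact one_ne_zero h2
  -- the centres form a subspace
  let C : Submodule F (Fin (m + 1) → F) :=
    { carrier := {a | ∀ φ : (Fin (m + 1) → F), φ ≠ 0 → φ ⬝ᵥ a = 0 → Has H a φ}
      zero_mem' := fun φ _ _ => has_zero_left H φ
      add_mem' := by
        intro a b ha hb φ hφ hab
        obtain ⟨u, hu⟩ : ∃ u : (Fin (m + 1) → F), u ∉ Submodule.span F {a, b} := by
          by_contra hc
          push Not at hc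
          have h1 : Module.finrank F (Submodule.span F ({a, b} : Set (Fin (m + 1) → F))) = m + 1 := by
            rw [show Submodule.span F ({a, b} : Set (Fin (m + 1) → F)) = ⊤ from Submodule.eq_top_iff'.2 hc, finrank_top, Module.finrank_fintype_fun_eq_card, Fintype.card_fin]
          have h2 : Module.finrank F (Submodule.span F ({a, b} : Set (Fin (m + 1) → F))) ≤ 2 := by
            have := finrank_span_finset_le_card (R := F) ({a, b} : Finset (Fin (m + 1) → F))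
            simp only [Finset.coe_insert, Finset.coe_singleton] at this
            exact this.trans Finset.card_le_two
          omega
        obtain ⟨χ, hχ0, hχ1⟩ := exists_dot _ hu
        have hne : χ ≠ 0 := fun e => by simp [e] at hχ1
        have ha' := ha χ hne (by rw [dotProduct_comm]; exact hχ0 a (Submodule.subset_span (by simp)))
        have hb' := hb χ hne (by rw [dotProduct_comm]; exact hχ0 b (Submodule.subset_span (by simp)))
        exact claim _ χ φ hne hφ (ha'.add_left hb') hab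
      smul_mem' := by
        intro c a ha φ hφ hca
        rcases eq_or_ne c 0 with rfl | hc
        · rw [zero_smul]; exact has_zero_left H φ
        · exact hsm c a φ hφ (ha φ hφ (by simpa [dotProduct_smul, hc] using hca)) }
  have hC : ∀ (a φ : (Fin (m + 1) → F)), φ ≠ 0 → (Has H a φ ↔ φ ⬝ᵥ a = 0 ∧ a ∈ C) := fun a φ hφ =>
    ⟨fun h => ⟨h.1, fun ψ hψ hψa => claim a φ ψ hφ hψ h hψa⟩, fun h => h.2 φ hφ h.1⟩
  obtain ⟨u, hu⟩ : ∃ u, u ∉ C := by
    obtain ⟨ψ, hψ, hW⟩ := hII e0 e0_ne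
    obtain ⟨x, h0, h1⟩ := exists_dot_pair hψ
    refine ⟨x, fun hx => ?_⟩
    have := ((hW x).1 (hx e0 e0_ne h0)).2
    rw [h1] at this
    exact one_ne_zero this
  obtain ⟨χ, hχC, hχu⟩ := exists_dot _ hu
  have hχ : χ ≠ 0 := fun e => by simp [e] at hχu
  let K : (Fin (m + 1) → F) → (Fin (m + 1) → F) → Submodule F (Fin (m + 1) → F) := fun φ ψ => LinearMap.ker
    ((dotProductBilin F F φ).prod (dotProductBilin F F ψ))
  have hK : ∀ φ ψ a, a ∈ K φ ψ ↔ φ ⬝ᵥ a = 0 ∧ ψ ⬝ᵥ a = 0 := fun φ ψ a => by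
    simp [K, dotProductBilin]
  have hKdim : ∀ φ ψ : (Fin (m + 1) → F), φ ≠ 0 → ψ ∉ F ∙ φ → Module.finrank F (K φ ψ) + 2 = m + 1 := by
    intro φ ψ hφ hψ
    obtain ⟨x, hx0, hx1⟩ := exists_dot_pair hψ
    obtain ⟨y, hy0, hy1⟩ := exists_dot_pair (notMem_span_symm hφ hψ)
    have hs : LinearMap.range ((dotProductBilin F F φ).prod (dotProductBilin F F ψ)) = ⊤ :=
      LinearMap.range_eq_top.2 fun p => ⟨p.1 • y + p.2 • x, by
        simp [dotProductBilin, dotProduct_add, dotProduct_smul, hx0, hx1, hy0, hy1]⟩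
    have h1 := LinearMap.finrank_range_add_finrank_ker
      ((dotProductBilin F F φ).prod (dotProductBilin F F ψ))
    rw [hs, finrank_top, Module.finrank_prod, Module.finrank_self, Module.finrank_fintype_fun_eq_card,
      Fintype.card_fin] at h1
    simp only [K]
    omega
  obtain ⟨ψ, hψ, hW⟩ := hII χ hχ
  have hCK : C = K χ ψ := by
    ext a
    rw [hK, ← hW, hC a χ hχ]
    exact ⟨fun h => ⟨by rw [dotProduct_comm]; exact hχC a h, h⟩, fun h => h.2⟩
  obtain ⟨a, haC, ha0⟩ := Submodule.exists_mem_ne_zero_of_ne_bot (p := C) (fun h => by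
    have := hKdim χ ψ hχ hψ
    rw [← hCK, h, finrank_bot] at this
    omega)
  obtain ⟨φ, hφ⟩ := exists_dot_one ha0
  rw [dotProduct_comm] at hφ
  have hφ0 : φ ≠ 0 := fun e => by simp [e] at hφ
  obtain ⟨ψ', hψ', hW'⟩ := hII φ hφ0
  have hle : K φ ψ' ≤ C := fun b hb => by
    rw [hK, ← hW', hC b φ hφ0] at hb
    exact hb.2
  have heq : K φ ψ' = C := Submodule.eq_of_le_of_finrank_eq hle (by
    have h1 := hKdim φ ψ' hφ0 hψ'
    have h2 := hKdim χ ψ hχ hψ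
    rw [hCK]; omega)
  have := (hK _ _ a).1 (heq ▸ haC)
  rw [hφ] at this
  exact one_ne_zero this.1

end CfsgLib.MinIdxPSL
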