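/-
A subgroup of small index in SL must contain a transvection.
-/
import Cfsg.Agent.MinIdxPSL.Transfer
import Cfsg.Agent.Classical.LinearOrder

set_option autoImplicit false
set_option linter.unusedSectionVars false
set_option linter.style.haveILetI false

namespace CfsgLib.MinIdxPSL

open Matrix

variable {F : Type*} [Field F] {m : ℕ}

/-- An elementary transvection in the normaliser of the elation group. -/
noncomputable def xx (i j : Fin m) (s : F) : Matrix.SpecialLinearGroup (Fin (m + 1)) F :=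
  dgl (Pi.single i s) (Pi.single j 1)

lemma xx_dot {i j : Fin m} (h : i ≠ j) (s : F) :
    (Pi.single j (1 : F) : Fin m → F) ⬝ᵥ Pi.single i s = 0 := by simp [h.symm]

lemma xx_ee {i j : Fin m} (h : i ≠ j) (s : F) (w : Fin m → F) :
    xx i j s * ee w = ee (w + w j • Pi.single i s) * xx i j s := by
  rw [xx, dgl_mul_ee (xx_dot h s)]
  simp

lemma cons_single_dot {i j : Fin m} (h : i ≠ j) (s t : F) :
    (Fin.cons 0 (Pi.single j t) : Fin (m + 1) → F) ⬝ᵥ Fin.cons 0 (Pi.single i s) = 0 := by
  rw [cons_dot_cons, zero_mul, zero_add]; simp [h.symm]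

lemma xx_vecMul {i j : Fin m} (h : i ≠ j) (s : F) :
    e0 ᵥ* (xx i j s : Matrix (Fin (m + 1)) (Fin (m + 1)) F) = (1 : F) • e0 := by
  rw [xx, dgl, tv_vecMul (cons_single_dot h s 1)]
  simp

lemma tv_swap {ι : Type*} [Fintype ι] [DecidableEq ι] {a φ b ψ : ι → F} (ha : φ ⬝ᵥ a = 0)
    (hb : ψ ⬝ᵥ b = 0) (hψ : ψ ⬝ᵥ a = 0) :
    tv a φ * tv b ψ = tv a ((φ ⬝ᵥ b) • ψ) * (tv b ψ * tv a φ) := by
  refine sl_ext fun x => ?_
  rw [mul_smul, mul_smul, mul_smul, tv_smul hb, tv_smul ha, tv_smul ha, tv_smul hb,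
    tv_smul (by simp [smul_dotProduct, hψ])]
  simp only [dotProduct_add, dotProduct_smul, smul_dotProduct, ha, hb, hψ, smul_eq_mul, mul_zero,
    add_zero]
  module

/-- A diagonal element. -/
def dg (d : Fin (m + 1) → F) (h : ∏ k, d k = 1) : Matrix.SpecialLinearGroup (Fin (m + 1)) F :=
  ⟨diagonal d, by rw [det_diagonal, h]⟩

lemma dg_smul (d : Fin (m + 1) → F) (h : ∏ k, d k = 1) (x : Fin (m + 1) → F) :
    dg d h • x = fun k => d k * x k := by
  rw [Matrix.SpecialLinearGroup.smul_def]
  funext k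
  exact mulVec_diagonal d x k

lemma dg_vecMul (d : Fin (m + 1) → F) (h : ∏ k, d k = 1) :
    e0 ᵥ* (dg d h : Matrix (Fin (m + 1)) (Fin (m + 1)) F) = d 0 • e0 := by
  funext k
  change (e0 ᵥ* diagonal d) k = _
  rw [vecMul_diagonal]
  rcases eq_or_ne k 0 with rfl | hk <;> simp [e0, *]

lemma dg_ne_zero {d : Fin (m + 1) → F} (h : ∏ k, d k = 1) (k : Fin (m + 1)) : d k ≠ 0 := fun h0 =>
  one_ne_zero (h.symm.trans (Finset.prod_eq_zero (Finset.mem_univ k) h0))

lemma dg_ee (d : Fin (m + 1) → F) (h : ∏ k, d k = 1) (w : Fin m → F) :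
    dg d h * ee w = ee (fun k => (d 0)⁻¹ * d k.succ * w k) * dg d h := by
  have h0 := dg_ne_zero h 0
  refine sl_ext fun x => ?_
  rw [ee, ee, mul_smul, mul_smul, tv_smul (e0_dot_cons w), tv_smul (e0_dot_cons _), dg_smul, dg_smul]
  funext k
  cases k using Fin.cases with
  | zero => simp
  | succ k => simp; field_simp

lemma dg_xx (d : Fin (m + 1) → F) (h : ∏ k, d k = 1) {i j : Fin m} (hij : i ≠ j) {s t : F}
    (hst : (t + s) * d j.succ = d i.succ * s) :
    dg d h * xx i j s = xx i j t * (xx i j s * dg d h) := by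
  have hd := cons_single_dot (F := F) hij
  have e : xx i j t * xx i j s = (xx i j (t + s) : Matrix.SpecialLinearGroup (Fin (m + 1)) F) := by
    rw [xx, xx, xx, dgl, dgl, dgl, tv_mul_left (hd t 1) (hd s 1), ← cons_add, Pi.single_add]
  rw [← mul_assoc, e]
  refine sl_ext fun x => ?_
  rw [xx, xx, dgl, dgl, mul_smul, mul_smul, tv_smul (hd s 1), tv_smul (hd _ 1), dg_smul, dg_smul]
  have hsum : ∀ y : Fin (m + 1) → F, (Fin.cons 0 (Pi.single j 1) : Fin (m + 1) → F) ⬝ᵥ y = y j.succ := by
    intro y; simp [dotProduct, Fin.sum_univ_succ, Pi.single_apply]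
  funext k
  simp only [hsum, Pi.add_apply, Pi.smul_apply, smul_eq_mul]
  cases k using Fin.cases with
  | zero => simp
  | succ k =>
    rcases eq_or_ne k i with rfl | hk
    · simp only [Fin.cons_succ, Pi.single_eq_same]
      linear_combination (-x j.succ) * hst
    · simp [hk]

variable [Fintype F]

theorem false_of_no_transvection (H : Subgroup (Matrix.SpecialLinearGroup (Fin (m + 1)) F)) (hm : 2 ≤ m)
    (hexc : m = 3 → Fintype.card F ≠ 2)
    (hd : H.index * (Fintype.card F - 1) < Fintype.card F ^ (m + 1) - 1)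
    (hN : ∀ φ : Fin (m + 1) → F, φ ≠ 0 → ∀ a, Has H a φ → a = 0)
    (hU : ∀ (φ : Fin (m + 1) → F) (g : Matrix.SpecialLinearGroup (Fin (m + 1)) F) (c : F),
      φ ≠ 0 → c ≠ 0 → φ ᵥ* (g : Matrix (Fin (m + 1)) (Fin (m + 1)) F) = c • φ →
        (∀ a, Has H a φ → a = 0) → ∃ a, φ ⬝ᵥ a = 0 ∧ tv a φ * g ∈ H) : False := by
  classical
  have lift : ∀ (g : Matrix.SpecialLinearGroup (Fin (m + 1)) F) (c : F), c ≠ 0 →
      e0 ᵥ* (g : Matrix (Fin (m + 1)) (Fin (m + 1)) F) = c • e0 → ∃ w, ee w * g ∈ H := by
    intro g c hc hg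
    obtain ⟨a, ha, hmem⟩ := hU e0 g c e0_ne hc hg (hN e0 e0_ne)
    refine ⟨Fin.tail a, ?_⟩
    rw [e0_dot] at ha
    have e : (Fin.cons 0 (Fin.tail a) : Fin (m + 1) → F) = a := by rw [← ha, Fin.cons_self_tail]
    rwa [ee, e]
  have uniq : ∀ (g : Matrix.SpecialLinearGroup (Fin (m + 1)) F) (c c' : Fin m → F),
      ee c * g ∈ H → ee c' * g ∈ H → c = c' := by
    intro g c c' h h'
    have h1 : ee (c - c') ∈ H := by
      rw [sub_eq_add_neg, ee_add, ee_neg]
      have := H.mul_mem h (H.inv_mem h')
      rwa [_root_.mul_inv_rev, mul_assoc, mul_inv_cancel_left] at this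
    have h2 := hN e0 e0_ne (Fin.cons 0 (c - c')) ⟨e0_dot_cons _, h1⟩
    funext k
    simpa [sub_eq_zero] using congrFun h2 k.succ
  have hcomm : ∀ (α β γ : Matrix.SpecialLinearGroup (Fin (m + 1)) F)
      (A B C : (Fin m → F) → (Fin m → F)), (∀ w, α * ee w = ee (A w) * α) →
      (∀ w, β * ee w = ee (B w) * β) → (∀ w, γ * ee w = ee (C w) * γ) → α * β = γ * (β * α) →
      ∀ ca cb cg, ee ca * α ∈ H → ee cb * β ∈ H → ee cg * γ ∈ H → ca + A cb = cg + C (cb + B ca) := by
    intro α β γ A B C hA hB hC he ca cb cg ha hb hg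
    refine uniq (α * β) _ _ ?_ ?_
    · have := H.mul_mem ha hb
      rwa [mul_assoc, ← mul_assoc α, hA, mul_assoc, ← mul_assoc, ← ee_add] at this
    · have := H.mul_mem hg (H.mul_mem hb ha)
      rw [mul_assoc (ee cb), ← mul_assoc β, hB, mul_assoc (ee (B ca)), ← mul_assoc (ee cb), ← ee_add,
        mul_assoc (ee cg), ← mul_assoc γ, hC, mul_assoc (ee (C _)), ← mul_assoc (ee cg), ← ee_add] at this
      rwa [he]
  -- it suffices to kill the coordinates of the lift of one elementary transvection
  suffices key : ∃ (i j : Fin m) (c : Fin m → F), i ≠ j ∧ ee c * xx i j 1 ∈ H ∧ ∀ k, k ≠ i → c k = 0 by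
    obtain ⟨i, j, c, hij, hc, hk⟩ := key
    have e : (Fin.cons 0 c : Fin (m + 1) → F) = c i • Fin.cons 0 (Pi.single i 1) := by
      rw [← cons_smul]
      congr 1
      funext k
      rcases eq_or_ne k i with rfl | h
      · simp
      · simp [hk k h, h]
    have he0 : e0 ⬝ᵥ (Fin.cons 0 (Pi.single i (1 : F)) : Fin (m + 1) → F) = 0 := e0_dot_cons _
    have hd1 := cons_single_dot hij (1 : F) 1
    have hy : Has H (Fin.cons 0 (Pi.single i (1 : F))) (c i • e0 + Fin.cons 0 (Pi.single j 1)) := by
      refine ⟨by rw [add_dotProduct, smul_dotProduct, he0, hd1, smul_zero, add_zero], ?_⟩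
      rw [← tv_mul_right (by rw [smul_dotProduct, he0, smul_zero]) hd1, ← tv_smul_swap (c i) he0, ← e]
      exact hc
    have hne : (c i • e0 + Fin.cons 0 (Pi.single j 1) : Fin (m + 1) → F) ≠ 0 := fun h => by
      simpa [e0] using congrFun h j.succ
    simpa using congrFun (hN _ hne _ hy) i.succ
  rcases Nat.lt_or_ge 2 m with hm3 | hm2
  · -- dimension at least four
    have hfin : ∀ s : Finset (Fin m), s.card < m → ∃ k, k ∉ s := fun s hs => by
      by_contra hc
      push Not at hc
      rw [Finset.eq_univ_iff_forall.2 hc, Finset.card_univ, Fintype.card_fin] at hs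
      omega
    let i : Fin m := ⟨0, by omega⟩
    let j : Fin m := ⟨1, by omega⟩
    have hij : i ≠ j := by simp [i, j]
    obtain ⟨c, hc⟩ := lift _ 1 one_ne_zero (xx_vecMul hij (1 : F))
    refine ⟨i, j, c, hij, hc, fun k hk => ?_⟩
    -- commutator with a further index
    have viaIndex : ∀ l : Fin m, l ≠ i → l ≠ j → l ≠ k → c k = 0 := by
      intro l hli hlj hlk
      obtain ⟨ca, hca⟩ := lift _ 1 one_ne_zero (xx_vecMul (Ne.symm hli) (1 : F))
      obtain ⟨cb, hcb⟩ := lift _ 1 one_ne_zero (xx_vecMul hlj (1 : F))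
      have he : xx i l (1 : F) * xx l j 1 = xx i j 1 * (xx l j 1 * xx i l 1) := by
        have := tv_swap (cons_single_dot (Ne.symm hli) (1 : F) 1) (cons_single_dot hlj (1 : F) 1)
          (cons_single_dot hij (1 : F) 1)
        rw [cons_dot_cons, zero_mul, zero_add] at this
        simpa [xx, dgl] using this
      have h1 := congrFun (hcomm _ _ _ _ _ _ (xx_ee (Ne.symm hli) (1 : F)) (xx_ee hlj (1 : F))
        (xx_ee hij (1 : F)) he ca cb c hca hcb hc) k
      simp [hk, hk.symm, hlk, hlk.symm] at h1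
      linear_combination -h1
    by_cases hkj : k = j
    · obtain ⟨l, hl⟩ := hfin {i, j} (lt_of_le_of_lt Finset.card_le_two hm3)
      simp only [Finset.mem_insert, Finset.mem_singleton, not_or] at hl
      exact viaIndex l hl.1 hl.2 (hkj ▸ hl.2)
    by_cases hm4 : 4 ≤ m
    · obtain ⟨l, hl⟩ := hfin {i, j, k} (lt_of_le_of_lt Finset.card_le_three (by omega))
      simp only [Finset.mem_insert, Finset.mem_singleton, not_or] at hl
      exact viaIndex l hl.1 hl.2.1 hl.2.2
    have hik : i ≠ k := Ne.symm hk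
    have hjk : j ≠ k := Ne.symm hkj
    by_cases h2 : (2 : F) = 0
    · -- even characteristic
      obtain ⟨x, hx0, hx1⟩ : ∃ x : F, x ≠ 0 ∧ x ≠ 1 := by
        by_contra hc
        push Not at hc
        refine hexc (by omega) ?_
        rw [← Finset.card_univ, show (Finset.univ : Finset F) = {0, 1} from
          Finset.ext fun x => by rcases eq_or_ne x 0 with h | h <;> simp [h, hc], Finset.card_pair zero_ne_one]
      have hsij : i.succ ≠ j.succ := fun h => hij (Fin.succ_injective _ h)
      set d : Fin (m + 1) → F := fun l => if l = i.succ then x else if l = j.succ then x⁻¹ else 1 with hdd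
      have hprod : ∏ l, d l = 1 := by
        rw [Fintype.prod_eq_mul i.succ j.succ hsij (fun l hl => by simp [hdd, hl.1, hl.2])]
        simp [hdd, hsij.symm, hx0]
      have hsq : x * x - 1 ≠ 0 := fun h => hx1 (by
        have h3 : (x - 1) * (x - 1) = 0 := by linear_combination h + (1 - x) * h2
        exact sub_eq_zero.1 (mul_self_eq_zero.1 h3))
      set s : F := (x * x - 1)⁻¹ with hs
      have hs1 : (x * x - 1) * s = 1 := mul_inv_cancel₀ hsq
      have hst : ((1 : F) + s) * d j.succ = d i.succ * s := by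
        simp [hdd, hsij.symm]
        field_simp
        linear_combination -hs1
      obtain ⟨ca, hca⟩ := lift _ _ (dg_ne_zero hprod 0) (dg_vecMul d hprod)
      obtain ⟨cb, hcb⟩ := lift _ 1 one_ne_zero (xx_vecMul hij s)
      have h1 := congrFun (hcomm _ _ _ _ _ _ (dg_ee d hprod) (xx_ee hij s) (xx_ee hij (1 : F))
        (dg_xx d hprod hij hst) ca cb c hca hcb hc) k
      simp [hdd, hk, hkj, hik, Fin.succ_inj, (Fin.succ_ne_zero i).symm, (Fin.succ_ne_zero j).symm] at h1
      linear_combination -h1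
    · -- odd characteristic
      obtain ⟨cik, hcik⟩ := lift _ 1 one_ne_zero (xx_vecMul hik (1 : F))
      obtain ⟨cjk, hcjk⟩ := lift _ 1 one_ne_zero (xx_vecMul hjk (1 : F))
      have he1 : xx i j (1 : F) * xx i k 1 = 1 * (xx i k 1 * xx i j 1) := by
        rw [one_mul, xx, xx, dgl, dgl, tv_mul_right (cons_single_dot hij _ _) (cons_single_dot hik _ _),
          tv_mul_right (cons_single_dot hik _ _) (cons_single_dot hij _ _)]
        exact congrArg _ (add_comm _ _)
      have h1 := congrFun (hcomm _ _ _ _ _ id (xx_ee hij (1 : F)) (xx_ee hik (1 : F))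
        (fun w => by simp) he1 c cik 0 hc hcik (by simpa [ee_zero] using H.one_mem)) i
      simp at h1
      have he2 : xx i j (1 : F) * xx j k 1 = xx i k 1 * (xx j k 1 * xx i j 1) := by
        have := tv_swap (cons_single_dot hij (1 : F) 1) (cons_single_dot hjk (1 : F) 1)
          (cons_single_dot hik (1 : F) 1)
        rw [cons_dot_cons, zero_mul, zero_add] at this
        simpa [xx, dgl] using this
      have h3 := congrFun (hcomm _ _ _ _ _ _ (xx_ee hij (1 : F)) (xx_ee hjk (1 : F))
        (xx_ee hik (1 : F)) he2 c cjk cik hc hcjk hcik) j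
      simp [hij.symm, hjk] at h3
      have h4 : (2 : F) * c k = 0 := by linear_combination (-1 : F) * h3 - h1
      exact (mul_eq_zero.1 h4).resolve_left h2
  · -- dimension three
    obtain rfl : m = 2 := by omega
    by_cases h2 : (2 : F) = 0
    · exfalso
      have hch : ringChar F = 2 := by
        haveI := CharTwo.of_one_ne_zero_of_two_eq_zero (R := F) one_ne_zero h2
        exact ringChar.eq F 2
      haveI : CharP F 2 := by rw [← hch]; infer_instance
      obtain ⟨e, -, hq⟩ := FiniteField.card F 2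
      set q := Fintype.card F with hqd
      by_cases hev : 2 ∣ Nat.card H
      · haveI : Fact (Nat.Prime 2) := ⟨Nat.prime_two⟩
        obtain ⟨g, hg⟩ := exists_prime_orderOf_dvd_card' 2 hev
        have hg1 : (g : Matrix.SpecialLinearGroup (Fin 3) F) ≠ 1 := fun h => by
          rw [OneMemClass.coe_eq_one] at h
          simp [h] at hg
        set N : Matrix (Fin 3) (Fin 3) F := ((g : Matrix.SpecialLinearGroup (Fin 3) F) : Matrix (Fin 3) (Fin 3) F) - 1 with hNdef
        have hgg : ((g : Matrix.SpecialLinearGroup (Fin 3) F) : Matrix (Fin 3) (Fin 3) F) *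
            ((g : Matrix.SpecialLinearGroup (Fin 3) F) : Matrix (Fin 3) (Fin 3) F) = 1 := by
          have := pow_orderOf_eq_one g
          rw [hg, sq] at this
          have := congrArg Subtype.val this
          simp only [Subgroup.coe_mul, Subgroup.coe_one] at this
          rw [← Matrix.SpecialLinearGroup.coe_mul, this, Matrix.SpecialLinearGroup.coe_one]
        have hNN : N * N = 0 := by
          have h0 : (2 : Matrix (Fin 3) (Fin 3) F) = 0 := by
            ext a b; simp [Matrix.ofNat_apply, h2]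
          rw [hNdef, sub_mul, mul_sub, mul_sub, hgg, one_mul, mul_one, one_mul]
          linear_combination (norm := noncomm_ring) (1 - ((g : Matrix.SpecialLinearGroup (Fin 3) F) : Matrix (Fin 3) (Fin 3) F)) * h0
        have hN0 : N ≠ 0 := fun h => hg1 (Subtype.ext (sub_eq_zero.1 h))
        have hr : Module.finrank F (LinearMap.range N.mulVecLin) ≤ 1 := by
          have hle : LinearMap.range N.mulVecLin ≤ LinearMap.ker N.mulVecLin := by
            rintro _ ⟨x, rfl⟩
            simp [mulVec_mulVec, hNN]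
          have h1 := LinearMap.finrank_range_add_finrank_ker N.mulVecLin
          have h3 := Submodule.finrank_mono hle
          simp at h1
          omega
        obtain ⟨a, ha⟩ := finrank_le_one_iff.1 hr
        obtain ⟨r, hr'⟩ : ∃ r : Fin 3 → F, N = vecMulVec (a : Fin 3 → F) r := by
          have hcol : ∀ l, ∃ s : F, N *ᵥ Pi.single l 1 = s • (a : Fin 3 → F) := fun l => by
            obtain ⟨s, hs⟩ := ha ⟨N *ᵥ Pi.single l 1, ⟨_, rfl⟩⟩
            exact ⟨s, (congrArg Subtype.val hs).symm⟩
          choose r hr'' using hcol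
          refine ⟨r, Matrix.ext fun k l => ?_⟩
          simpa [vecMulVec_apply, mul_comm] using congrFun (hr'' l) k
        have hgN : ((g : Matrix.SpecialLinearGroup (Fin 3) F) : Matrix (Fin 3) (Fin 3) F) = 1 + vecMulVec (a : Fin 3 → F) r := by
          rw [← hr', hNdef]; abel
        have hdot : r ⬝ᵥ (a : Fin 3 → F) = 0 := by
          have := (g : Matrix.SpecialLinearGroup (Fin 3) F).2
          rw [hgN, vecMulVec_eq Unit, det_one_add_replicateCol_mul_replicateRow] at this
          simpa using this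
        have hHas : Has H (a : Fin 3 → F) r :=
          ⟨hdot, by rw [show tv (a : Fin 3 → F) r = g from Subtype.ext ((tv_val hdot).trans hgN.symm)]; exact g.2⟩
        have hr0 : r ≠ 0 := fun h => hN0 (by rw [hr', h, vecMulVec_zero])
        exact hN0 (by rw [hr', hN r hr0 _ hHas, zero_vecMulVec])
      · have hdvd : q ^ 3 ∣ Nat.card (Matrix.SpecialLinearGroup (Fin 3) F) := by
          have h1 := CfsgLib.Linear.card_SL_mul hqd.symm 3 (by norm_num)
          have hco : Nat.Coprime (q ^ 3) (q - 1) := by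
            refine Nat.Coprime.pow_left 3 ?_
            have : 1 ≤ q := Fintype.card_pos
            exact Nat.coprime_of_dvd' fun p _ hp hp' => (Nat.dvd_add_right hp').1 (by rwa [Nat.sub_add_cancel this])
          refine hco.dvd_of_dvd_mul_left ?_
          rw [h1, Fin.prod_univ_three]
          simp only [Fin.val_zero, pow_zero, Fin.val_one, pow_one, Fin.val_two]
          have e1 : q ^ 3 - q = q * (q ^ 2 - 1) := by rw [Nat.mul_sub, mul_one, pow_succ']
          have e2 : q ^ 3 - q ^ 2 = q ^ 2 * (q - 1) := by rw [Nat.mul_sub, mul_one, pow_succ]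
          rw [e1, e2]
          exact ⟨(q ^ 3 - 1) * (q ^ 2 - 1) * (q - 1), by ring⟩
        rw [← H.card_mul_index] at hdvd
        have hco : Nat.Coprime (q ^ 3) (Nat.card H) := by
          rw [hq, ← pow_mul]
          exact Nat.Coprime.pow_left _ ((Nat.Prime.coprime_iff_not_dvd Nat.prime_two).2 hev)
        have h5 := Nat.le_of_dvd (Nat.pos_of_ne_zero Subgroup.index_ne_zero_of_finite) (hco.dvd_of_dvd_mul_left hdvd)
        have h6 : 1 ≤ q - 1 := by have : 1 < q := Fintype.one_lt_card; omega
        have h7 := Nat.mul_le_mul h5 h6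
        simp only [Nat.reduceAdd, mul_one] at hd h7
        omega
    · obtain ⟨c, hc⟩ := lift _ 1 one_ne_zero (xx_vecMul (show (0 : Fin 2) ≠ 1 by decide) (1 : F))
      refine ⟨0, 1, c, by decide, hc, fun k hk => ?_⟩
      obtain rfl : k = 1 := by omega
      set d : Fin 3 → F := ![-1, 1, -1] with hdd
      have hprod : ∏ l, d l = 1 := by simp [hdd, Fin.prod_univ_three]
      set s : F := -(2 : F)⁻¹ with hs
      have hst : ((1 : F) + s) * d (Fin.succ 1) = d (Fin.succ 0) * s := by
        simp [hdd, hs]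
        field_simp
        ring
      obtain ⟨ca, hca⟩ := lift _ _ (dg_ne_zero hprod 0) (dg_vecMul d hprod)
      obtain ⟨cb, hcb⟩ := lift _ 1 one_ne_zero (xx_vecMul (show (0 : Fin 2) ≠ 1 by decide) s)
      have h1 := congrFun (hcomm _ _ _ _ _ _ (dg_ee d hprod) (xx_ee (show (0 : Fin 2) ≠ 1 by decide) s)
        (xx_ee (show (0 : Fin 2) ≠ 1 by decide) (1 : F))
        (dg_xx d hprod (show (0 : Fin 2) ≠ 1 by decide) hst) ca cb c hca hcb hc) 1
      simp [hdd] at h1
      linear_combination -h1

end CfsgLib.MinIdxPSL
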