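/-
The minimal index of a proper subgroup of SL_n and PSL_n, n ≥ 3.
-/
import Cfsg.Agent.MinIdxPSL.NoTv
import Mathlib.LinearAlgebra.Projectivization.Action
import Mathlib.LinearAlgebra.Projectivization.Cardinality

set_option autoImplicit false
set_option linter.unusedSectionVars false
set_option linter.style.haveILetI false

namespace CfsgLib.MinIdxPSL

open Matrix
open scoped LinearAlgebra.Projectivization

variable {F : Type*} [Field F] [Fintype F] {m : ℕ}

lemma index_point_stabilizer (P : ℙ F (Fin (m + 1) → F)) :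
    (MulAction.stabilizer (Matrix.SpecialLinearGroup (Fin (m + 1)) F) P).index =
      (Fintype.card F ^ (m + 1) - 1) / (Fintype.card F - 1) := by
  haveI : MulAction.IsPretransitive (Matrix.SpecialLinearGroup (Fin (m + 1)) F) (ℙ F (Fin (m + 1) → F)) :=
    MulAction.isPretransitive_of_is_two_pretransitive
  rw [MulAction.index_stabilizer_of_transitive, Projectivization.card'']
  simp

/-- A proper subgroup of SL of dimension `m + 1 ≥ 3` has index at least the number of points. -/
theorem points_le_index (H : Subgroup (Matrix.SpecialLinearGroup (Fin (m + 1)) F)) (hH : H ≠ ⊤)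
    (hm : 2 ≤ m) (hexc : m = 3 → Fintype.card F ≠ 2) :
    (Fintype.card F ^ (m + 1) - 1) / (Fintype.card F - 1) ≤ H.index := by
  classical
  haveI : Nontrivial (Fin (m + 1)) := Fin.nontrivial_iff_two_le.2 (by omega)
  have hq : 1 < Fintype.card F := Fintype.one_lt_card
  by_contra hlt
  push Not at hlt
  have hd : H.index * (Fintype.card F - 1) < Fintype.card F ^ (m + 1) - 1 := by
    rcases Nat.lt_or_ge (H.index * (Fintype.card F - 1)) (Fintype.card F ^ (m + 1) - 1) with h | h
    · exact h
    · have h2 := Nat.div_le_div_right (c := Fintype.card F - 1) h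
      rw [Nat.mul_div_cancel _ (by omega)] at h2
      omega
  rcases dichotomy H hm hd with ⟨hI, hU⟩ | hII
  swap
  · exact false_of_hyperplane_pattern hm hII
  by_cases hfull : ∃ φ : Fin (m + 1) → F, φ ≠ 0 ∧ ∀ a, φ ⬝ᵥ a = 0 → Has H a φ
  swap
  · push Not at hfull
    refine false_of_no_transvection H hm hexc hd (fun φ hφ => (hI φ hφ).resolve_left fun h => ?_) hU
    obtain ⟨a, ha, hna⟩ := hfull φ hφ
    exact hna (h a ha)
  let Φ : Submodule F (Fin (m + 1) → F) :=
    { carrier := {φ | ∀ a, φ ⬝ᵥ a = 0 → Has H a φ}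
      zero_mem' := fun a _ => has_zero_right H a
      smul_mem' := by
        intro c φ hφ a ha
        rcases eq_or_ne c 0 with rfl | hc
        · rw [zero_smul]; exact has_zero_right H a
        · rw [← has_swap]
          refine hφ _ ?_
          rw [dotProduct_smul, ← smul_dotProduct, ha]
      add_mem' := by
        intro φ ψ hφ hψ
        rcases eq_or_ne φ 0 with rfl | hφ0
        · simpa using hψ
        by_cases hdep : ψ ∈ F ∙ φ
        · obtain ⟨c, rfl⟩ := Submodule.mem_span_singleton.1 hdep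
          intro a ha
          rcases eq_or_ne (1 + c) 0 with hc | hc
          · rw [show φ + c • φ = (1 + c) • φ by module, hc, zero_smul]; exact has_zero_right H a
          · rw [show φ + c • φ = (1 + c) • φ by module, ← has_swap]
            refine hφ _ ?_
            rw [dotProduct_smul, ← smul_dotProduct, show (1 + c) • φ = φ + c • φ by module, ha]
        have hψ0 : ψ ≠ 0 := fun h => hdep (h ▸ Submodule.zero_mem _)
        have hne : φ + ψ ≠ 0 := fun h => hdep (by
          rw [eq_neg_of_add_eq_zero_right h]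
          exact Submodule.neg_mem _ (Submodule.mem_span_singleton_self φ))
        -- conjugate an elation of `ψ` by one of `φ`
        obtain ⟨a, ha0, ha1⟩ := exists_dot_pair hdep
        refine (hI _ hne).resolve_right fun hnone => ?_
        obtain ⟨b, hb0, hb1⟩ := exists_dot_pair (notMem_span_symm hφ0 hdep)
        have h1 := (hφ a ha0).conj_tv (hψ b hb0)
        rw [ha1, one_smul, add_comm ψ φ] at h1
        have h2 := hnone _ h1
        rw [hb1, one_smul, sub_eq_zero] at h2
        rw [h2, ha1] at hb0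
        exact one_ne_zero hb0 }
  have hΦne : ∃ φ, φ ∈ Φ ∧ φ ≠ 0 := by
    obtain ⟨φ, hφ, h⟩ := hfull
    exact ⟨φ, h, hφ⟩
  obtain ⟨φ, hφΦ⟩ : ∃ φ, φ ∉ Φ := by
    by_contra hc
    push Not at hc
    exact hH (closure_tv fun a φ h => (hc φ a h).2)
  have hφ : φ ≠ 0 := fun h => hφΦ (h ▸ Φ.zero_mem)
  have hnone : ∀ a, Has H a φ → a = 0 := (hI φ hφ).resolve_left hφΦ
  obtain ⟨x, hxΦ, hx1⟩ := exists_dot Φ hφΦ
  have hx : x ≠ 0 := fun h => by simp [h] at hx1
  -- the common zeros of `Φ`
  let U : Submodule F (Fin (m + 1) → F) :=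
    { carrier := {u | ∀ ψ ∈ Φ, ψ ⬝ᵥ u = 0}
      zero_mem' := fun ψ _ => dotProduct_zero ψ
      add_mem' := fun {u v} hu hv ψ hψ => by rw [dotProduct_add, hu ψ hψ, hv ψ hψ, add_zero]
      smul_mem' := fun c u hu ψ hψ => by rw [dotProduct_smul, hu ψ hψ, smul_zero] }
  have hHU : ∀ h ∈ H, ∀ u ∈ U, h • u ∈ U := by
    intro h hh u hu ψ hψ
    rw [dot_smul_smul]
    refine hu _ fun a ha => ?_
    have h1 : ψ ⬝ᵥ (h • a) = 0 := by rw [dot_smul_smul]; exact ha
    have h2 := (hψ _ h1).conj hh
    rwa [inv_smul_smul] at h2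
  have hline : ∀ u ∈ U, ∃ c : F, u = c • x := by
    intro u hu
    refine ⟨φ ⬝ᵥ u, ?_⟩
    by_contra hne
    set u0 := u - (φ ⬝ᵥ u) • x with hu0
    have hu0U : u0 ∈ U := U.sub_mem hu (U.smul_mem _ hxΦ)
    have hu0φ : φ ⬝ᵥ u0 = 0 := by simp [hu0, dotProduct_sub, dotProduct_smul, hx1]
    have hu00 : u0 ≠ 0 := fun h => hne (sub_eq_zero.1 h)
    have hker : ∀ v, φ ⬝ᵥ v = 0 → v ∈ U := by
      intro v hv
      by_cases hdep : u0 ∈ F ∙ (v - u0)
      · obtain ⟨c, hc⟩ := Submodule.mem_span_singleton.1 hdep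
        have hc0 : c ≠ 0 := fun h => hu00 (by rw [← hc, h, zero_smul])
        have e : v = u0 + c⁻¹ • u0 := by
          nth_rewrite 2 [← hc]
          rw [smul_smul, inv_mul_cancel₀ hc0, one_smul]; abel
        rw [e]; exact U.add_mem hu0U (U.smul_mem _ hu0U)
      obtain ⟨l, hl0, hl1⟩ := exists_dot_pair hdep
      rw [dotProduct_comm] at hl0 hl1
      set g := tv (v - u0) l with hg
      have hgu : g • u0 = v := by rw [hg, tv_smul hl0, hl1, one_smul]; abel
      have hgφ : φ ᵥ* (g : Matrix (Fin (m + 1)) (Fin (m + 1)) F) = (1 : F) • φ := by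
        rw [hg, tv_vecMul hl0, dotProduct_sub, hv, hu0φ, sub_zero, zero_smul, add_zero, one_smul]
      obtain ⟨a, ha, hmem⟩ := hU φ g 1 hφ one_ne_zero hgφ hnone
      have h1 := hHU _ hmem u0 hu0U
      rwa [mul_smul, hgu, tv_smul ha, hv, zero_smul, add_zero] at h1
    obtain ⟨ψ, hψ, hψ0⟩ := hΦne
    obtain ⟨y, hy⟩ := exists_dot_one hψ0
    have hyU : y ∈ U := by
      have := U.add_mem (hker (y - (φ ⬝ᵥ y) • x) (by simp [dotProduct_sub, dotProduct_smul, hx1]))
        (U.smul_mem (φ ⬝ᵥ y) (show x ∈ U from hxΦ))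
      simpa using this
    have h2 := hyU ψ hψ
    rw [hy] at h2
    exact one_ne_zero h2
  -- so `H` fixes a point
  have hle : H ≤ MulAction.stabilizer (Matrix.SpecialLinearGroup (Fin (m + 1)) F)
      (Projectivization.mk F x hx) := by
    intro h hh
    rw [MulAction.mem_stabilizer_iff, Projectivization.smul_mk]
    rw [Projectivization.mk_eq_mk_iff']
    obtain ⟨c, hc⟩ := hline _ (hHU h hh x hxΦ)
    exact ⟨c, hc.symm⟩
  have := Nat.le_of_dvd (Nat.pos_of_ne_zero Subgroup.index_ne_zero_of_finite)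
    (Subgroup.index_dvd_of_le hle)
  rw [index_point_stabilizer] at this
  omega

end CfsgLib.MinIdxPSL
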